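import Cfsg.Agent.Lib.JacobiThree.Heis

/-!
Maps out of the Heisenberg group of order 27.
-/

set_option autoImplicit false

namespace Cfsg.Agent.Lib.JacobiThree

variable {X : Type*} [Group X]

/-- Power with exponent in `ZMod 3`. -/
def pw (g : X) (k : ZMod 3) : X := g ^ k.val

theorem pw_natCast {g : X} (hg : g ^ 3 = 1) (n : ℕ) : pw g (n : ZMod 3) = g ^ n := by
  rw [pw, ZMod.val_natCast]
  exact (pow_eq_pow_mod n hg).symm

theorem pw_add {g : X} (hg : g ^ 3 = 1) (j k : ZMod 3) : pw g (j + k) = pw g j * pw g k := by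
  rw [← ZMod.natCast_zmod_val j, ← ZMod.natCast_zmod_val k, ← Nat.cast_add, pw_natCast hg,
    pw_natCast hg, pw_natCast hg, pow_add]

theorem pw_zero (g : X) : pw g 0 = 1 := by simp [pw]

theorem pw_one (g : X) : pw g 1 = g := by simp [pw, ZMod.val_one]

theorem pw_mem {S : Subgroup X} {g : X} (hg : g ∈ S) (k : ZMod 3) : pw g k ∈ S := pow_mem hg _

theorem map_pw {Y : Type*} [Group Y] (f : X →* Y) (g : X) (k : ZMod 3) :
    f (pw g k) = pw (f g) k := map_pow f g _

theorem commute_pw {g h : X} (hc : Commute g h) (j k : ZMod 3) : Commute (pw g j) (pw h k) :=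
  hc.pow_pow _ _

/-- Generators of a group of type `3^{1+2}`. -/
structure HeisData (a b z : X) : Prop where
  a3 : a ^ 3 = 1
  b3 : b ^ 3 = 1
  z3 : z ^ 3 = 1
  za : Commute z a
  zb : Commute z b
  rel : b * a = a * b * z

namespace HeisData

variable {a b z : X} (d : HeisData a b z)
include d

theorem pow_swap_one : ∀ m : ℕ, b ^ m * a = a * b ^ m * z ^ m
  | 0 => by simp
  | m + 1 => by
    rw [pow_succ', mul_assoc, pow_swap_one m, ← mul_assoc, ← mul_assoc, d.rel,
      mul_assoc a b z, mul_assoc (a) (b * z), mul_assoc b z, (d.zb.pow_right m).eq,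
      pow_succ' z m]
    simp only [mul_assoc]

theorem pow_swap (m : ℕ) : ∀ n : ℕ, b ^ m * a ^ n = a ^ n * b ^ m * z ^ (m * n)
  | 0 => by simp
  | n + 1 => by
    rw [pow_succ, ← mul_assoc, pow_swap m n, mul_assoc _ (z ^ (m * n)) a,
      (d.za.pow_left _).eq, ← mul_assoc, mul_assoc (a ^ n), d.pow_swap_one m, ← mul_assoc,
      ← mul_assoc, mul_assoc _ (z ^ m) (z ^ (m * n)), ← pow_add]
    congr 2
    ring

theorem pw_swap (q p : ZMod 3) : pw b q * pw a p = pw a p * pw b q * pw z (q * p) := by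
  rw [pw, pw, d.pow_swap, ← pw_natCast d.z3, Nat.cast_mul, ZMod.natCast_zmod_val,
    ZMod.natCast_zmod_val]

/-- The homomorphism from the Heisenberg group. -/
def eta : Heis →* X :=
  MonoidHom.mk' (fun h => pw a h.p * pw b h.q * pw z (h.t - h.p * h.q)) fun g h => by
    have e1 : Commute (pw z (g.t - g.p * g.q)) (pw a h.p * pw b h.q * pw z (h.t - h.p * h.q)) :=
      ((commute_pw d.za _ _).mul_right (commute_pw d.zb _ _)).mul_right
        (commute_pw (Commute.refl z) _ _)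
    rw [mul_assoc _ (pw z (g.t - g.p * g.q)), e1.eq]
    simp only [Heis.mul_p, Heis.mul_q, Heis.mul_t]
    rw [pw_add d.a3, pw_add d.b3,
      show g.t + h.t + (g.p * h.q - g.q * h.p) - (g.p + h.p) * (g.q + h.q) =
        g.q * h.p + ((h.t - h.p * h.q) + (g.t - g.p * g.q)) by
          have h3 : (3 : ZMod 3) = 0 := rfl
          linear_combination (-(g.q * h.p)) * h3,
      pw_add d.z3, pw_add d.z3]
    calc pw a g.p * pw a h.p * (pw b g.q * pw b h.q) *
          (pw z (g.q * h.p) * (pw z (h.t - h.p * h.q) * pw z (g.t - g.p * g.q)))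
        = pw a g.p * pw a h.p * pw b g.q * (pw b h.q * pw z (g.q * h.p)) *
          (pw z (h.t - h.p * h.q) * pw z (g.t - g.p * g.q)) := by simp only [mul_assoc]
      _ = pw a g.p * (pw a h.p * pw b g.q * pw z (g.q * h.p)) * pw b h.q *
          (pw z (h.t - h.p * h.q) * pw z (g.t - g.p * g.q)) := by
            rw [← (commute_pw d.zb _ _).eq]; simp only [mul_assoc]
      _ = _ := by rw [← d.pw_swap]; simp only [mul_assoc]

theorem eta_apply (h : Heis) : d.eta h = pw a h.p * pw b h.q * pw z (h.t - h.p * h.q) := rfl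

theorem eta_a : d.eta ⟨1, 0, 0⟩ = a := by simp [d.eta_apply, pw_zero, pw_one]

theorem eta_b : d.eta ⟨0, 1, 0⟩ = b := by simp [d.eta_apply, pw_zero, pw_one]

theorem eta_z : d.eta ⟨0, 0, 1⟩ = z := by simp [d.eta_apply, pw_zero, pw_one]

end HeisData

/-- Homomorphisms out of the Heisenberg group agreeing on the two generators are equal. -/
theorem hom_ext {f g : Heis →* X} (ha : f ⟨1, 0, 0⟩ = g ⟨1, 0, 0⟩) (hb : f ⟨0, 1, 0⟩ = g ⟨0, 1, 0⟩) :
    f = g := by
  have hz : f ⟨0, 0, 1⟩ = g ⟨0, 0, 1⟩ := by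
    have e : (⟨0, 0, 1⟩ : Heis) =
        ⟨0, 1, 0⟩ * ⟨1, 0, 0⟩ * (⟨0, 1, 0⟩ : Heis)⁻¹ * (⟨1, 0, 0⟩ : Heis)⁻¹ := by decide
    rw [e]
    simp only [map_mul, map_inv, ha, hb]
  ext ⟨p, q, t⟩
  have e : ∀ p q t : ZMod 3, (⟨p, q, t⟩ : Heis) =
      pw ⟨1, 0, 0⟩ p * pw ⟨0, 1, 0⟩ q * pw ⟨0, 0, 1⟩ (t - p * q) := by decide +kernel
  rw [e p q t]
  simp only [map_mul, map_pw, ha, hb, hz]

end Cfsg.Agent.Lib.JacobiThree
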