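import Mathlib

/-!
The Heisenberg group of order 27 with its action of `SL₂(3)`, and the semidirect product.
-/

set_option autoImplicit false

namespace Cfsg.Agent.Lib.JacobiThree

open Matrix

/-- `SL₂(3)`. -/
abbrev SL23 := Matrix.SpecialLinearGroup (Fin 2) (ZMod 3)

/-- The Heisenberg group of order 27. -/
@[ext] structure Heis where
  /-- First coordinate. -/
  p : ZMod 3
  /-- Second coordinate. -/
  q : ZMod 3
  /-- Central coordinate. -/
  t : ZMod 3
deriving DecidableEq

namespace Heis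

instance instMul : Mul Heis := ⟨fun g h => ⟨g.p + h.p, g.q + h.q, g.t + h.t + (g.p * h.q - g.q * h.p)⟩⟩
instance instOne : One Heis := ⟨⟨0, 0, 0⟩⟩
instance instInv : Inv Heis := ⟨fun g => ⟨-g.p, -g.q, -g.t⟩⟩

@[simp] theorem mul_p (g h : Heis) : (g * h).p = g.p + h.p := rfl
@[simp] theorem mul_q (g h : Heis) : (g * h).q = g.q + h.q := rfl
@[simp] theorem mul_t (g h : Heis) : (g * h).t = g.t + h.t + (g.p * h.q - g.q * h.p) := rfl
@[simp] theorem one_p : (1 : Heis).p = 0 := rfl
@[simp] theorem one_q : (1 : Heis).q = 0 := rfl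
@[simp] theorem one_t : (1 : Heis).t = 0 := rfl
@[simp] theorem inv_p (g : Heis) : g⁻¹.p = -g.p := rfl
@[simp] theorem inv_q (g : Heis) : g⁻¹.q = -g.q := rfl
@[simp] theorem inv_t (g : Heis) : g⁻¹.t = -g.t := rfl

instance instGroup : Group Heis where
  mul_assoc a b c := by ext <;> simp <;> ring
  one_mul a := by ext <;> simp
  mul_one a := by ext <;> simp
  inv_mul_cancel a := by
    ext <;> simp
    ring

/-- The underlying triples. -/
def equivTriple : Heis ≃ ZMod 3 × ZMod 3 × ZMod 3 where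
  toFun h := (h.p, h.q, h.t)
  invFun h := ⟨h.1, h.2.1, h.2.2⟩

instance instFintype : Fintype Heis := Fintype.ofEquiv _ equivTriple.symm

theorem natCard : Nat.card Heis = 27 := by
  rw [Nat.card_congr equivTriple]
  simp [Nat.card_prod]

/-- Apply a matrix. -/
def app (A : SL23) (h : Heis) : Heis :=
  ⟨A.1 0 0 * h.p + A.1 0 1 * h.q, A.1 1 0 * h.p + A.1 1 1 * h.q, h.t⟩

theorem app_mul (A : SL23) (g h : Heis) : app A (g * h) = app A g * app A h := by
  have hd : A.1 0 0 * A.1 1 1 - A.1 0 1 * A.1 1 0 = 1 := by rw [← Matrix.det_fin_two]; exact A.2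
  ext <;> simp [app]
  · ring
  · ring
  · linear_combination (-(g.p * h.q - g.q * h.p)) * hd

theorem app_app (A B : SL23) (h : Heis) : app A (app B h) = app (A * B) h := by
  ext <;> simp [app, Matrix.mul_apply, Fin.sum_univ_two] <;> ring

theorem app_one (h : Heis) : app 1 h = h := by
  ext <;> simp [app]

/-- The action of `SL₂(3)`. -/
def act : SL23 →* MulAut Heis where
  toFun A :=
    { toFun := app A
      invFun := app A⁻¹
      left_inv := fun h => by rw [app_app, inv_mul_cancel, app_one]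
      right_inv := fun h => by rw [app_app, mul_inv_cancel, app_one]
      map_mul' := app_mul A }
  map_one' := MulEquiv.ext app_one
  map_mul' A B := MulEquiv.ext fun h => (app_app A B h).symm

theorem act_apply (A : SL23) (h : Heis) : act A h = app A h := rfl

end Heis

/-- The semidirect product `3^{1+2} ⋊ SL₂(3)`. -/
abbrev Jac := SemidirectProduct Heis SL23 Heis.act

theorem card_SL23 : Nat.card SL23 = 24 := by
  rw [Nat.card_eq_fintype_card]; decide +kernel

theorem natCard_jac : Nat.card Jac = 648 := by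
  rw [SemidirectProduct.card, Heis.natCard, card_SL23]

theorem sl_involution : ∀ A : SL23, A * A = 1 → A = 1 ∨ A = -1 := by decide +kernel

theorem sl_normal_fact : ∀ A : SL23, A ≠ 1 →
    A = -1 ∨ A ^ 2 = -1 ∨ A ^ 3 = -1 ∨
      ∃ B : SL23, A * B * A⁻¹ * B⁻¹ = -1 ∨ (A * B * A⁻¹ * B⁻¹) ^ 2 = -1 := by decide +kernel

theorem sl_neg_one_ne : (-1 : SL23) ≠ 1 := by decide +kernel

theorem sl_neg_one_central : ∀ A : SL23, A * -1 = -1 * A := by decide +kernel

theorem zmod3_units_pow : ∀ u : (ZMod 3)ˣ, u ^ 2 = 1 := by decide +kernel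

theorem sl_fix : ∀ A : SL23, A ^ 3 = 1 → A ≠ 1 → ∀ p q p' q' : ZMod 3,
    A.1 0 0 * p + A.1 0 1 * q = p → A.1 1 0 * p + A.1 1 1 * q = q →
    A.1 0 0 * p' + A.1 0 1 * q' = p' → A.1 1 0 * p' + A.1 1 1 * q' = q' →
    p * q' - q * p' = 0 := by decide +kernel

end Cfsg.Agent.Lib.JacobiThree
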