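import Cfsg.Agent.Lib.JacobiThree.Eta
import Cfsg.Agent.Lib.PSolvable.Core

/-!
Recognition of `3^{1+2} ⋊ SL₂(3)`.
-/

set_option autoImplicit false
set_option linter.style.haveILetI false

namespace Cfsg.Agent.Lib.JacobiThree

open Subgroup

variable {X : Type*} [Group X] [Finite X]

theorem sl_cube : ∀ A : SL23, ∃ B C : SL23, A ^ 3 = B * C * B⁻¹ * C⁻¹ := by decide +kernel

theorem sl_fix_line : ∀ A : SL23, ∀ p q p' q' : ZMod 3, (p ≠ 0 ∨ q ≠ 0) →
    A.1 0 0 * p + A.1 0 1 * q = p → A.1 1 0 * p + A.1 1 1 * q = q → p' * q - q' * p = 0 →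
    A.1 0 0 * p' + A.1 0 1 * q' = p' ∧ A.1 1 0 * p' + A.1 1 1 * q' = q' := by decide +kernel

/-- A choice of generators of `R`. -/
structure Frame (R : Subgroup X) where
  a : X
  b : X
  z : X
  d : HeisData a b z
  inj : Function.Injective d.eta
  range_eq : d.eta.range = R

theorem exists_frame (R : Subgroup X) (hcard : Nat.card R = 27) (hexp : ∀ r ∈ R, r ^ 3 = 1)
    (hcom : ∀ r ∈ R, ∀ s ∈ R, ∀ u ∈ R, Commute ((r * s)⁻¹ * (s * r)) u)
    {a b : X} (ha : a ∈ R) (hb : b ∈ R) (hab : ¬ Commute a b) :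
    ∃ f : Frame R, f.a = a ∧ f.b = b := by
  set z := (a * b)⁻¹ * (b * a) with hz
  have hzR : z ∈ R := mul_mem (inv_mem (mul_mem ha hb)) (mul_mem hb ha)
  have d : HeisData a b z :=
    ⟨hexp a ha, hexp b hb, hexp z hzR, hcom a ha b hb a ha, hcom a ha b hb b hb,
      by rw [hz, mul_inv_cancel_left]⟩
  have hz1 : z ≠ 1 := by
    rw [hz, Ne, inv_mul_eq_one]
    exact hab
  have hinj : Function.Injective d.eta := by
    rw [injective_iff_map_eq_one]
    intro h e
    have hp : h.p = 0 := by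
      by_contra hp
      refine hab ?_
      rw [d.eta_apply] at e
      have e1 : pw a h.p = (pw b h.q * pw z (h.t - h.p * h.q))⁻¹ :=
        eq_inv_of_mul_eq_one_left (by rw [← mul_assoc]; exact e)
      have c1 : Commute (pw a h.p) b := by
        rw [e1]
        exact (((Commute.refl b).pow_left _).mul_left (d.zb.pow_left _)).inv_left
      rcases (show h.p = 1 ∨ h.p = 2 by revert hp; generalize h.p = u; revert u; decide) with e2 | e2
      · rw [e2, pw_one] at c1; exact c1
      · rw [e2] at c1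
        have c2 : Commute ((pw a 2) ^ 2) b := c1.pow_left 2
        have e3 : (pw a 2) ^ 2 = a := by
          rw [pw, show (2 : ZMod 3).val = 2 from rfl, ← pow_mul, pow_succ, d.a3, one_mul]
        rwa [e3] at c2
    have hq : h.q = 0 := by
      by_contra hq
      refine hab ?_
      rw [d.eta_apply, hp, pw_zero, one_mul] at e
      have e1 : pw b h.q = (pw z (h.t - 0 * h.q))⁻¹ := eq_inv_of_mul_eq_one_left e
      have c1 : Commute a (pw b h.q) := by rw [e1]; exact ((d.za.pow_left _).inv_left).symm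
      rcases (show h.q = 1 ∨ h.q = 2 by revert hq; generalize h.q = u; revert u; decide) with e2 | e2
      · rw [e2, pw_one] at c1; exact c1
      · rw [e2] at c1
        have c2 : Commute a ((pw b 2) ^ 2) := c1.pow_right 2
        have e3 : (pw b 2) ^ 2 = b := by
          rw [pw, show (2 : ZMod 3).val = 2 from rfl, ← pow_mul, pow_succ, d.b3, one_mul]
        rwa [e3] at c2
    rw [d.eta_apply, hp, hq, pw_zero, pw_zero, one_mul, one_mul, mul_zero, sub_zero] at e
    ext
    · exact hp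
    · exact hq
    · show h.t = 0
      by_contra ht
      refine hz1 ?_
      rcases (show h.t = 1 ∨ h.t = 2 by revert ht; generalize h.t = u; revert u; decide) with e2 | e2
      · rwa [e2, pw_one] at e
      · rw [e2, pw, show (2 : ZMod 3).val = 2 from rfl] at e
        have := d.z3
        rwa [pow_succ, e, one_mul] at this
  refine ⟨⟨a, b, z, d, hinj, ?_⟩, rfl, rfl⟩
  refine eq_of_le_of_card_ge ?_ ?_
  · rintro _ ⟨h, rfl⟩
    exact mul_mem (mul_mem (pw_mem ha _) (pw_mem hb _)) (pw_mem hzR _)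
  · rw [← Nat.card_congr (MonoidHom.ofInjective hinj).toEquiv, Heis.natCard, hcard]

namespace Frame

variable {R : Subgroup X} [R.Normal] (f : Frame R)

theorem eta_mem (h : Heis) : f.d.eta h ∈ R := (le_of_eq f.range_eq) ⟨h, rfl⟩

theorem exists_eta {r : X} (hr : r ∈ R) : ∃ h, f.d.eta h = r := by
  rwa [← f.range_eq] at hr

/-- Conjugation by `x` in coordinates. -/
noncomputable def co (x : X) : Heis →* Heis :=
  (MonoidHom.ofInjective f.inj).symm.toMonoidHom.comp
    (((MulAut.conj x).toMonoidHom.comp f.d.eta).codRestrict f.d.eta.range fun h => by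
      rw [f.range_eq]
      exact ‹R.Normal›.conj_mem _ (f.eta_mem h) x)

theorem eta_co (x : X) (h : Heis) : f.d.eta (f.co x h) = x * f.d.eta h * x⁻¹ := by
  show f.d.eta ((MonoidHom.ofInjective f.inj).symm _) = _
  rw [← MonoidHom.ofInjective_apply (hf := f.inj), MulEquiv.apply_symm_apply]
  rfl

theorem co_mul (x y : X) (h : Heis) : f.co (x * y) h = f.co x (f.co y h) := by
  refine f.inj ?_
  rw [eta_co, eta_co, eta_co]
  group

theorem co_of_mem {r : X} (hr : r ∈ R) (h : Heis) :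
    (f.co r h).p = h.p ∧ (f.co r h).q = h.q := by
  obtain ⟨k, rfl⟩ := f.exists_eta hr
  have e : f.co (f.d.eta k) h = k * h * k⁻¹ := f.inj (by rw [eta_co, map_mul, map_mul, map_inv])
  rw [e]
  constructor <;> simp

theorem co_p (x : X) (h : Heis) :
    (f.co x h).p = (f.co x ⟨1, 0, 0⟩).p * h.p + (f.co x ⟨0, 1, 0⟩).p * h.q := by
  let P : Heis →* Multiplicative (ZMod 3) :=
    MonoidHom.mk' (fun h => Multiplicative.ofAdd h.p) fun g h => rfl
  let L : Heis →* Multiplicative (ZMod 3) :=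
    MonoidHom.mk' (fun h => Multiplicative.ofAdd
      ((f.co x ⟨1, 0, 0⟩).p * h.p + (f.co x ⟨0, 1, 0⟩).p * h.q)) fun g h => by
        rw [← ofAdd_add]; congr 1; simp only [Heis.mul_p, Heis.mul_q]; ring
  have e : P.comp (f.co x) = L := hom_ext (by simp [P, L]) (by simp [P, L])
  exact congrArg Multiplicative.toAdd (DFunLike.congr_fun e h)

theorem co_q (x : X) (h : Heis) :
    (f.co x h).q = (f.co x ⟨1, 0, 0⟩).q * h.p + (f.co x ⟨0, 1, 0⟩).q * h.q := by
  let P : Heis →* Multiplicative (ZMod 3) :=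
    MonoidHom.mk' (fun h => Multiplicative.ofAdd h.q) fun g h => rfl
  let L : Heis →* Multiplicative (ZMod 3) :=
    MonoidHom.mk' (fun h => Multiplicative.ofAdd
      ((f.co x ⟨1, 0, 0⟩).q * h.p + (f.co x ⟨0, 1, 0⟩).q * h.q)) fun g h => by
        rw [← ofAdd_add]; congr 1; simp only [Heis.mul_p, Heis.mul_q]; ring
  have e : P.comp (f.co x) = L := hom_ext (by simp [P, L]) (by simp [P, L])
  exact congrArg Multiplicative.toAdd (DFunLike.congr_fun e h)

/-- The matrix of `x` on `R / Z(R)`. -/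
noncomputable def mat (x : X) : Matrix (Fin 2) (Fin 2) (ZMod 3) :=
  !![(f.co x ⟨1, 0, 0⟩).p, (f.co x ⟨0, 1, 0⟩).p; (f.co x ⟨1, 0, 0⟩).q, (f.co x ⟨0, 1, 0⟩).q]

theorem mat_of_mem {r : X} (hr : r ∈ R) : f.mat r = 1 := by
  rw [mat, (f.co_of_mem hr _).1, (f.co_of_mem hr _).1, (f.co_of_mem hr _).2, (f.co_of_mem hr _).2]
  exact Matrix.one_fin_two.symm

theorem mat_mul (x y : X) : f.mat (x * y) = f.mat x * f.mat y := by
  simp only [mat, Matrix.mul_fin_two, co_mul]
  rw [f.co_p x (f.co y ⟨1, 0, 0⟩), f.co_p x (f.co y ⟨0, 1, 0⟩), f.co_q x (f.co y ⟨1, 0, 0⟩),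
    f.co_q x (f.co y ⟨0, 1, 0⟩)]

theorem co_zeta (x : X) : f.co x ⟨0, 0, 1⟩ = ⟨0, 0, (f.mat x).det⟩ := by
  have e : (⟨0, 0, 1⟩ : Heis) =
      ⟨0, 1, 0⟩ * ⟨1, 0, 0⟩ * (⟨0, 1, 0⟩ : Heis)⁻¹ * (⟨1, 0, 0⟩ : Heis)⁻¹ := by decide
  rw [e, map_mul, map_mul, map_mul, map_inv, map_inv, mat, Matrix.det_fin_two_of]
  ext
  · simp
  · simp
  · have h3 : (3 : ZMod 3) = 0 := rfl
    simp only [Heis.mul_p, Heis.mul_q, Heis.mul_t, Heis.inv_p, Heis.inv_q, Heis.inv_t]
    linear_combination (-((f.co x ⟨1, 0, 0⟩).p * (f.co x ⟨0, 1, 0⟩).q) +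
      (f.co x ⟨0, 1, 0⟩).p * (f.co x ⟨1, 0, 0⟩).q) * h3

theorem det_mat (π : X →* SL23) (hπ : Function.Surjective π) (hker : π.ker = R) (x : X) :
    (f.mat x).det = 1 := by
  let D : X →* ZMod 3 := MonoidHom.mk
    ⟨fun x => (f.mat x).det, by rw [f.mat_of_mem (one_mem R), Matrix.det_one]⟩
    fun x y => by show (f.mat (x * y)).det = _; rw [f.mat_mul, Matrix.det_mul]
  let U : X →* (ZMod 3)ˣ := D.toHomUnits
  have hU : π.ker ≤ U.ker := fun r hr => by
    rw [MonoidHom.mem_ker]
    ext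
    show (f.mat r).det = 1
    rw [f.mat_of_mem (hker ▸ hr), Matrix.det_one]
  set g := π.liftOfSurjective hπ ⟨U, hU⟩ with hg
  have hgπ : ∀ x, g (π x) = U x := fun x =>
    π.liftOfRightInverse_comp_apply _ _ ⟨U, hU⟩ x
  have h1 : ∀ A : SL23, g A = 1 := by
    intro A
    obtain ⟨B, C, hA⟩ := sl_cube A
    have h3 := congrArg g hA
    rw [map_pow, map_mul, map_mul, map_mul, map_inv, map_inv, mul_comm (g B) (g C),
      mul_inv_cancel_right, mul_inv_cancel] at h3
    have h2 := zmod3_units_pow (g A)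
    rw [pow_succ, h2, one_mul] at h3
    exact h3
  have := congrArg Units.val ((hgπ x).symm.trans (h1 _))
  exact this

/-- The action on `R / Z(R)` as an element of `SL₂(3)`. -/
noncomputable def rho (π : X →* SL23) (hπ : Function.Surjective π) (hker : π.ker = R) :
    X →* SL23 :=
  MonoidHom.mk' (fun x => ⟨f.mat x, f.det_mat π hπ hker x⟩) fun x y =>
    Subtype.ext (f.mat_mul x y)

theorem co_app (π : X →* SL23) (hπ : Function.Surjective π) (hker : π.ker = R) (x : X) (h : Heis) :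
    (f.co x h).p = (Heis.app (f.rho π hπ hker x) h).p ∧
      (f.co x h).q = (Heis.app (f.rho π hπ hker x) h).q := by
  exact ⟨(f.co_p x h).trans rfl, (f.co_q x h).trans rfl⟩

theorem z_central (π : X →* SL23) (hπ : Function.Surjective π) (hker : π.ker = R) (x : X) :
    Commute f.z x := by
  have h := f.eta_co x ⟨0, 0, 1⟩
  rw [f.co_zeta, f.det_mat π hπ hker, f.d.eta_z] at h
  exact mul_inv_eq_iff_eq_mul.mp h.symm |>.symm

end Frame

section main

variable (R : Subgroup X) [R.Normal] (π : X →* SL23) (hπ : Function.Surjective π) (hker : π.ker = R)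
  (hexp : ∀ r ∈ R, r ^ 3 = 1) (hO2 : Cfsg.pCore 2 X = ⊥)

include hexp hker hπ in
theorem exists_involution : ∃ j : X, j * j = 1 ∧ π j = -1 := by
  obtain ⟨y, hy⟩ := hπ (-1)
  have hn : (-1 : SL23) * -1 = 1 := by decide +kernel
  have h2 : y ^ 2 ∈ R := by rw [← hker, MonoidHom.mem_ker, map_pow, hy, sq, hn]
  refine ⟨y ^ 3, by rw [← sq, ← pow_mul, show 3 * 2 = 2 * 3 from rfl, pow_mul, hexp _ h2], ?_⟩
  rw [map_pow, hy, pow_succ, sq, hn, one_mul]

variable {j : X} (hj : j * j = 1) (hjπ : π j = -1)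

include hexp hO2 hj hjπ in
theorem rho_involution (f : Frame R) : f.rho π hπ hker j = -1 := by
  refine (sl_involution _ (by rw [← map_mul, hj, map_one])).resolve_left fun h1 => ?_
  have hjinv : j⁻¹ = j := inv_eq_of_mul_eq_one_right hj
  -- then `j` centralises `R`
  have hfix : ∀ h : Heis, f.co j h = h := by
    intro h
    obtain ⟨hp, hq⟩ := f.co_app π hπ hker j h
    rw [h1, Heis.app_one] at hp hq
    have hk : f.co j h = h * ⟨0, 0, (f.co j h).t - h.t⟩ := by
      ext
      · simp [hp]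
      · simp [hq]
      · simp
    have hzeta : ∀ s, f.co j ⟨0, 0, s⟩ = ⟨0, 0, s⟩ := by
      intro s
      have e : ∀ s : ZMod 3, (⟨0, 0, s⟩ : Heis) = pw ⟨0, 0, 1⟩ s := by decide +kernel
      rw [e s, map_pw, f.co_zeta, f.det_mat π hπ hker]
    have hone : f.co j (f.co j h) = h := by
      rw [← f.co_mul, hj]
      exact f.inj (by rw [f.eta_co, one_mul, inv_one, mul_one])
    rw [hk, map_mul, hzeta, hk, mul_assoc] at hone
    have e := congrArg Heis.t hone
    simp at e
    have key : ∀ u v : ZMod 3, u - v + (u - v) = 0 → u = v := by decide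
    refine Heis.ext hp hq (key _ _ ?_)
    linear_combination e
  have hjR : ∀ r ∈ R, Commute j r := by
    intro r hr
    obtain ⟨h, rfl⟩ := f.exists_eta hr
    have := f.eta_co j h
    rw [hfix] at this
    exact (eq_mul_inv_iff_mul_eq.mp this).symm
  -- so `j` is central
  have hjc : ∀ x : X, x * j * x⁻¹ = j := by
    intro x
    set j' := x * j * x⁻¹ with hj'
    have hj'2 : j' * j' = 1 := by
      rw [hj', show x * j * x⁻¹ * (x * j * x⁻¹) = x * (j * j) * x⁻¹ by group, hj, mul_one,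
        mul_inv_cancel]
    have hmem : j * j' ∈ R := by
      rw [← hker, MonoidHom.mem_ker, map_mul, hj', map_mul, map_mul, map_inv, hjπ, sl_neg_one_central,
        mul_inv_cancel_right]
      decide +kernel
    have hc : Commute j j' := by
      have := ((Commute.refl j).mul_right ((hjR _ hmem)))
      have e : j * (j * j') = j' := by rw [← mul_assoc, hj, one_mul]
      rwa [e] at this
    have h2 : (j * j') ^ 2 = 1 := by
      rw [sq, mul_assoc, ← mul_assoc j' j j', ← hc.eq, mul_assoc j j' j', hj'2, mul_one, hj]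
    have h3 := hexp _ hmem
    rw [pow_succ, h2, one_mul] at h3
    rw [← hjinv]
    exact eq_inv_of_mul_eq_one_right h3
  have hn : (zpowers j).Normal := ⟨fun n hn x => by
    obtain ⟨k, rfl⟩ := mem_zpowers_iff.mp hn
    rw [← conj_zpow, hjc]
    exact zpow_mem (mem_zpowers j) k⟩
  have hp : IsPGroup 2 (zpowers j) := IsPGroup.of_card (n := 1) (by
    rw [Nat.card_zpowers, pow_one]
    refine orderOf_eq_prime (hp := ⟨Nat.prime_two⟩) (by rw [sq, hj]) fun e => ?_
    rw [e, map_one] at hjπ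
    exact sl_neg_one_ne hjπ.symm)
  have := PSolvable.le_pCore hp (mem_zpowers j)
  rw [hO2, mem_bot] at this
  rw [this, map_one] at hjπ
  exact sl_neg_one_ne hjπ.symm

include hexp hO2 hj hjπ in
theorem rho_eq_one_iff (f : Frame R) (x : X) : f.rho π hπ hker x = 1 → x ∈ R := by
  intro hx
  by_contra hxR
  have hne : π x ≠ 1 := fun e => hxR (hker ▸ e)
  -- a word in `x` mapping to `-1` and killed by `ρ`
  have key : ∀ w : X, π w = -1 → f.rho π hπ hker w = 1 → False := by
    intro w hw hw1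
    have hmem : j * w ∈ R := by
      rw [← hker, MonoidHom.mem_ker, map_mul, hjπ, hw]
      decide +kernel
    have h := rho_involution R π hπ hker hexp hO2 hj hjπ f
    have h0 : f.rho π hπ hker (j * w) = 1 := Subtype.ext (f.mat_of_mem hmem)
    rw [map_mul, hw1, mul_one, h] at h0
    exact sl_neg_one_ne h0
  rcases sl_normal_fact (π x) hne with e | e | e | ⟨B, e⟩
  · exact key x e hx
  · exact key (x ^ 2) (by rw [map_pow, e]) (by rw [map_pow, hx, one_pow])
  · exact key (x ^ 3) (by rw [map_pow, e]) (by rw [map_pow, hx, one_pow])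
  · obtain ⟨y, rfl⟩ := hπ B
    have h0 : f.rho π hπ hker (x * y * x⁻¹ * y⁻¹) = 1 := by
      simp [hx]
    rcases e with e | e
    · exact key _ (by rw [map_mul, map_mul, map_mul, map_inv, map_inv, e]) h0
    · exact key ((x * y * x⁻¹ * y⁻¹) ^ 2)
        (by rw [map_pow, map_mul, map_mul, map_mul, map_inv, map_inv, e])
        (by rw [map_pow, h0, one_pow])

theorem inverted_rep {j r : X} (hj : j * j = 1) :
    j * ((r * (j * r⁻¹ * j)) ^ 2) * j = ((r * (j * r⁻¹ * j)) ^ 2)⁻¹ := by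
  have hjinv : j⁻¹ = j := inv_eq_of_mul_eq_one_right hj
  have e : j * (r * (j * r⁻¹ * j)) * j⁻¹ = (r * (j * r⁻¹ * j))⁻¹ := by
    rw [hjinv]
    simp only [mul_inv_rev, inv_inv, hjinv, mul_assoc, hj, mul_one]
  have := congrArg (fun g => g ^ 2) e
  rw [conj_pow, inv_pow] at this
  conv_lhs => arg 2; rw [← hjinv]
  exact this

include hπ hker hexp hO2 in
/-- The recognition theorem. -/
theorem nonempty_jac (hcard : Nat.card R = 27)
    (hcom : ∀ r ∈ R, ∀ s ∈ R, ∀ u ∈ R, Commute ((r * s)⁻¹ * (s * r)) u)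
    (hnab : ∃ a ∈ R, ∃ b ∈ R, ¬ Commute a b)
    (hE : ∃ E : Subgroup X, IsMulCommutative E ∧ (∀ a ∈ E, a ^ 3 = 1) ∧ Nat.card E = 27) :
    Nonempty (Jac ≃* X) := by
  classical
  obtain ⟨j, hj, hjπ⟩ := exists_involution R π hπ hker hexp
  have hjinv : j⁻¹ = j := inv_eq_of_mul_eq_one_right hj
  obtain ⟨a₀, ha₀, b₀, hb₀, hab₀⟩ := hnab
  obtain ⟨f₀, rfl, rfl⟩ := exists_frame R hcard hexp hcom ha₀ hb₀ hab₀
  -- generators inverted by `j`
  have hj₀ := rho_involution R π hπ hker hexp hO2 hj hjπ f₀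
  have hrep : ∀ k : Heis, ∃ s, f₀.d.eta s = (f₀.d.eta k * (j * (f₀.d.eta k)⁻¹ * j)) ^ 2 ∧
      s.p = k.p ∧ s.q = k.q := by
    intro k
    refine ⟨(k * f₀.co j k⁻¹) ^ 2, ?_, ?_, ?_⟩
    · rw [map_pow, map_mul, f₀.eta_co, map_inv, hjinv]
    all_goals
      obtain ⟨hp, hq⟩ := f₀.co_app π hπ hker j k⁻¹
      rw [hj₀] at hp hq
      simp only [sq, Heis.mul_p, Heis.mul_q, hp, hq]
      simp [Heis.app]
      have h4 : ∀ u : ZMod 3, u + u + (u + u) = u := by decide
      exact h4 _
  obtain ⟨sa, hsa, hsap, hsaq⟩ := hrep ⟨1, 0, 0⟩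
  obtain ⟨sb, hsb, hsbp, hsbq⟩ := hrep ⟨0, 1, 0⟩
  rw [f₀.d.eta_a] at hsa
  rw [f₀.d.eta_b] at hsb
  have hsab : ¬ Commute (f₀.d.eta sa) (f₀.d.eta sb) := by
    intro hc
    have e : sa * sb = sb * sa := f₀.inj (by rw [map_mul, map_mul]; exact hc)
    have := congrArg Heis.t e
    simp only [Heis.mul_t, hsap, hsaq, hsbp, hsbq] at this
    have h0 : (1 : ZMod 3) + 1 = 0 := by linear_combination this
    exact absurd h0 (by decide)
  obtain ⟨f, hfa, hfb⟩ := exists_frame R hcard hexp hcom (f₀.eta_mem sa) (f₀.eta_mem sb) hsab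
  have hja : j * f.a * j = f.a⁻¹ := by rw [hfa, hsa]; exact inverted_rep hj
  have hjb : j * f.b * j = f.b⁻¹ := by rw [hfb, hsb]; exact inverted_rep hj
  set ρ := f.rho π hπ hker with hρ
  have hρj : ρ j = -1 := rho_involution R π hπ hker hexp hO2 hj hjπ f
  have hjeta : ∀ h : Heis, j * f.d.eta h * j = f.d.eta (Heis.app (-1) h) := by
    intro h
    have e : (MulAut.conj j).toMonoidHom.comp f.d.eta =
        f.d.eta.comp (Heis.act (-1)).toMonoidHom := by
      refine hom_ext ?_ ?_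
      · show j * f.d.eta ⟨1, 0, 0⟩ * j⁻¹ = f.d.eta (Heis.app (-1) ⟨1, 0, 0⟩)
        rw [show Heis.app (-1) ⟨1, 0, 0⟩ = (⟨1, 0, 0⟩ : Heis)⁻¹ by decide +kernel, map_inv,
          f.d.eta_a, hjinv, hja]
      · show j * f.d.eta ⟨0, 1, 0⟩ * j⁻¹ = f.d.eta (Heis.app (-1) ⟨0, 1, 0⟩)
        rw [show Heis.app (-1) ⟨0, 1, 0⟩ = (⟨0, 1, 0⟩ : Heis)⁻¹ by decide +kernel, map_inv,
          f.d.eta_b, hjinv, hjb]
    have := DFunLike.congr_fun e h
    simp only [MonoidHom.comp_apply, MulEquiv.coe_toMonoidHom, MulAut.conj_apply, hjinv,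
      Heis.act_apply] at this
    exact this
  set N := centralizer ({j} : Set X) with hN
  have hzc := f.z_central π hπ hker
  -- the action of `N`
  have hNact : ∀ n ∈ N, ∀ h : Heis, n * f.d.eta h * n⁻¹ = f.d.eta (Heis.app (ρ n) h) := by
    intro n hn h
    have hnj : Commute n j := mem_centralizer_singleton_iff.mp hn
    have hgen : ∀ k : Heis, j * f.d.eta k * j = (f.d.eta k)⁻¹ → k.t = 0 →
        f.co n k = Heis.app (ρ n) k := by
      intro k hk hkt
      obtain ⟨hp, hq⟩ := f.co_app π hπ hker n k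
      have hinv : j * f.d.eta (f.co n k) * j = (f.d.eta (f.co n k))⁻¹ := by
        rw [f.eta_co]
        calc j * (n * f.d.eta k * n⁻¹) * j = (j * n) * f.d.eta k * (n⁻¹ * j) := by group
          _ = (n * j) * f.d.eta k * (j * n⁻¹) := by rw [hnj.eq, hnj.inv_left.eq]
          _ = n * (j * f.d.eta k * j) * n⁻¹ := by group
          _ = _ := by rw [hk]; group
      rw [hjeta, ← map_inv] at hinv
      have ht := congrArg Heis.t (f.inj hinv)
      simp [Heis.app] at ht
      have key : ∀ u : ZMod 3, u = -u → u = 0 := by decide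
      refine Heis.ext hp hq ?_
      rw [key _ ht]
      simp [Heis.app, hkt]
    have e : (MulAut.conj n).toMonoidHom.comp f.d.eta =
        f.d.eta.comp (Heis.act (ρ n)).toMonoidHom := by
      refine hom_ext ?_ ?_
      · show n * f.d.eta ⟨1, 0, 0⟩ * n⁻¹ = f.d.eta (Heis.app (ρ n) ⟨1, 0, 0⟩)
        rw [← f.eta_co, hgen _ (by rw [f.d.eta_a]; exact hja) rfl]
      · show n * f.d.eta ⟨0, 1, 0⟩ * n⁻¹ = f.d.eta (Heis.app (ρ n) ⟨0, 1, 0⟩)
        rw [← f.eta_co, hgen _ (by rw [f.d.eta_b]; exact hjb) rfl]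
    exact DFunLike.congr_fun e h
  have hNR : ∀ r ∈ R, r ∈ N → ∃ k : ZMod 3, r = pw f.z k := by
    intro r hr hrN
    obtain ⟨h, rfl⟩ := f.exists_eta hr
    have e : j * f.d.eta h * j = f.d.eta h := by
      rw [← mem_centralizer_singleton_iff.mp hrN, mul_assoc, hj, mul_one]
    rw [hjeta] at e
    have e' := f.inj e
    have key : ∀ u : ZMod 3, -u = u → u = 0 := by decide
    have hp : h.p = 0 := key _ (by simpa [Heis.app] using congrArg Heis.p e')
    have hq : h.q = 0 := key _ (by simpa [Heis.app] using congrArg Heis.q e')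
    exact ⟨h.t, by rw [f.d.eta_apply, hp, hq, pw_zero, pw_zero, one_mul, one_mul, mul_zero, sub_zero]⟩
  have hsplit : ∀ x : X, ∃ r ∈ R, r⁻¹ * x ∈ N := by
    intro x
    set r := j * (x * j * x⁻¹) with hr
    have hrR : r ∈ R := by
      rw [← hker, MonoidHom.mem_ker, hr, map_mul, map_mul, map_mul, map_inv, hjπ, sl_neg_one_central,
        mul_inv_cancel_right]
      decide +kernel
    refine ⟨r, hrR, mem_centralizer_singleton_iff.mpr ?_⟩
    have h3 := hexp r hrR
    have hri : j * r * j = r⁻¹ := by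
      rw [hr, mul_inv_rev, mul_inv_rev, mul_inv_rev, inv_inv, hjinv, ← mul_assoc, hj, one_mul]
      group
    have hconj : r * j * r⁻¹ = j * r := by
      have e : r⁻¹ = r * r := inv_eq_of_mul_eq_one_right (by rw [← pow_three]; exact h3)
      have e2 : j * r = r⁻¹ * j := by rw [← hri, mul_assoc (j * r), hj, mul_one]
      calc r * j * r⁻¹ = r * (j * r) * r := by rw [e]; group
        _ = r * (r⁻¹ * j) * r := by rw [e2]
        _ = j * r := by group
    have hx : j * r = x * j * x⁻¹ := by rw [hr, ← mul_assoc, hj, one_mul]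
    show r⁻¹ * x * j = j * (r⁻¹ * x)
    calc r⁻¹ * x * j = r⁻¹ * (x * j * x⁻¹) * x := by group
      _ = r⁻¹ * (r * j * r⁻¹) * x := by rw [hconj, hx]
      _ = _ := by group
  -- an element of order 3 of `N` outside `R`
  have hπR : ∀ r ∈ R, π r = 1 := fun r hr => MonoidHom.mem_ker.mp (hker.symm ▸ hr)
  have hker24 : ∀ S : Subgroup X, Nat.card (S.map π) ∣ 24 := fun S => by
    rw [← card_SL23]; exact card_subgroup_dvd_card _
  obtain ⟨E, hEc, hE3, hEcard⟩ := hE
  have hEc' : ∀ u ∈ E, ∀ v ∈ E, Commute u v := fun u hu v hv =>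
    congrArg Subtype.val (hEc.is_comm.comm (⟨u, hu⟩ : E) ⟨v, hv⟩)
  have hER : ¬ E ≤ R := fun h => hab₀
    (hEc' _ ((eq_of_le_of_card_ge h (by rw [hEcard, hcard])).ge ha₀) _
      ((eq_of_le_of_card_ge h (by rw [hEcard, hcard])).ge hb₀))
  obtain ⟨e₁, he₁, he₁R⟩ := SetLike.not_le_iff_exists.mp hER
  obtain ⟨u, hu, hu0⟩ : ∃ h : Heis, f.d.eta h ∈ E ∧ (h.p ≠ 0 ∨ h.q ≠ 0) := by
    by_contra hall
    push Not at hall
    have hle : Nat.card ↥(E ⊓ R) ≤ 3 := by
      have hc : E ⊓ R ≤ zpowers f.z := by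
        rintro y ⟨hyE, hyR⟩
        obtain ⟨h, rfl⟩ := f.exists_eta hyR
        obtain ⟨hp, hq⟩ := hall h hyE
        rw [f.d.eta_apply, hp, hq, pw_zero, pw_zero, one_mul, one_mul]
        exact npow_mem_zpowers _ _
      refine (card_le_of_le hc).trans ?_
      rw [Nat.card_zpowers]
      exact orderOf_le_of_pow_eq_one (by norm_num) f.d.z3
    have h1 := card_mul_index ((E ⊓ R).subgroupOf E)
    rw [Nat.card_congr (subgroupOfEquivOfLe inf_le_left).toEquiv, hEcard] at h1
    have h2 : ((E ⊓ R).subgroupOf E).index = Nat.card (E.map π) := by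
      rw [← relIndex, inf_relIndex_left, ← hker, relIndex_ker]
    have h3 : Nat.card (E.map π) ∣ 3 := by
      have e1 : Nat.card (E.map π) ∣ 27 := by rw [← hEcard]; exact card_map_dvd _ _
      exact Nat.dvd_gcd e1 (hker24 E)
    rw [h2] at h1
    have h4 := Nat.le_of_dvd (by norm_num) h3
    nlinarith
  obtain ⟨r, hr, hrn⟩ := hsplit e₁
  set n := r⁻¹ * e₁ with hn
  have hn3 : n ^ 3 = 1 := by
    obtain ⟨c, rfl⟩ := f.exists_eta hr
    set u₀ : Heis := ⟨u.p, u.q, 0⟩ with hu₀
    have hue : f.d.eta u = f.d.eta u₀ * f.d.eta ⟨0, 0, u.t⟩ := by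
      rw [← map_mul]; congr 1; ext <;> simp [hu₀]
    have hcentral : ∀ x, Commute (f.d.eta ⟨0, 0, u.t⟩) x := fun x => by
      rw [f.d.eta_apply]
      simp only [pw_zero, one_mul]
      exact (hzc x).pow_left _
    have hc0 : Commute e₁ (f.d.eta u₀) := by
      have h := (hEc' _ he₁ _ hu).mul_right (hcentral e₁).symm.inv_right
      rwa [hue, mul_inv_cancel_right] at h
    have hfixp := f.co_app π hπ hker e₁ u₀
    have hco : f.co e₁ u₀ = u₀ := f.inj (by rw [f.eta_co, hc0.eq, mul_inv_cancel_right])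
    rw [hco] at hfixp
    have hρn : ρ n = ρ e₁ := by
      rw [hn, map_mul, map_inv, show ρ (f.d.eta c) = 1 from Subtype.ext (f.mat_of_mem hr), inv_one,
        one_mul]
    have happ : Heis.app (ρ e₁) u₀ = u₀ := Heis.ext hfixp.1.symm hfixp.2.symm rfl
    have hnu : n * f.d.eta u₀ * n⁻¹ = f.d.eta u₀ := by rw [hNact n hrn, hρn, happ]
    have hcu : c * u₀ = u₀ * c := f.inj (by
      rw [map_mul, map_mul]
      have e2 : e₁ * f.d.eta u₀ * e₁⁻¹ = f.d.eta u₀ := by rw [hc0.eq, mul_inv_cancel_right]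
      rw [show e₁ = f.d.eta c * n by rw [hn, mul_inv_cancel_left]] at e2
      rw [mul_inv_rev, show f.d.eta c * n * f.d.eta u₀ * (n⁻¹ * (f.d.eta c)⁻¹) =
        f.d.eta c * (n * f.d.eta u₀ * n⁻¹) * (f.d.eta c)⁻¹ by group, hnu] at e2
      exact mul_inv_eq_iff_eq_mul.mp e2)
    have hdet : c.p * u.q - c.q * u.p = 0 := by
      have := congrArg Heis.t hcu
      simp [hu₀] at this
      have key : ∀ A B : ZMod 3, A - B = B - A → A - B = 0 := by decide
      apply key
      linear_combination this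
    obtain ⟨hf1, hf2⟩ := sl_fix_line (ρ e₁) u.p u.q c.p c.q hu0 hfixp.1.symm hfixp.2.symm hdet
    have happc : Heis.app (ρ e₁) c = c := Heis.ext hf1 hf2 rfl
    have hcomm : Commute n (f.d.eta c) := by
      have := hNact n hrn c
      rw [hρn, happc] at this
      exact mul_inv_eq_iff_eq_mul.mp this
    have he : e₁ = f.d.eta c * n := by rw [hn, mul_inv_cancel_left]
    have h3 := hE3 e₁ he₁
    rw [he, hcomm.symm.mul_pow, hexp _ hr, one_mul] at h3
    exact h3
  have hπn : π n ≠ 1 := by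
    rw [hn, map_mul, map_inv, hπR r hr, inv_one, one_mul]
    exact fun e => he₁R (hker ▸ e)
  have hzN : f.z ∈ N := mem_centralizer_singleton_iff.mpr (hzc j)
  have hzR : f.z ∈ R := by
    have := f.eta_mem ⟨0, 0, 1⟩
    rwa [f.d.eta_z] at this
  have hz1 : f.z ≠ 1 := by
    intro e
    have : (⟨0, 0, 1⟩ : Heis) = 1 := f.inj (f.d.eta_z.trans (e.trans (map_one _).symm))
    exact absurd this (by decide)
  haveI : Fact (Nat.Prime 3) := ⟨Nat.prime_three⟩
  have hoz : orderOf f.z = 3 := orderOf_eq_prime f.d.z3 hz1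
  have hon : orderOf n = 3 := orderOf_eq_prime hn3 fun e => hπn (by rw [e, map_one])
  -- `|N| = 72`
  have hNsurj : ∀ A : SL23, ∃ m ∈ N, π m = A := fun A => by
    obtain ⟨x, rfl⟩ := hπ A
    obtain ⟨s, hs, hsx⟩ := hsplit x
    exact ⟨_, hsx, by rw [map_mul, map_inv, hπR s hs, inv_one, one_mul]⟩
  have hNker : (π.comp N.subtype).ker = (zpowers f.z).subgroupOf N := by
    ext ⟨m, hm⟩
    rw [MonoidHom.mem_ker, mem_subgroupOf]
    constructor
    · intro h
      obtain ⟨k, hk⟩ := hNR m (hker ▸ h) hm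
      rw [show ((⟨m, hm⟩ : N) : X) = pw f.z k from hk]
      exact npow_mem_zpowers _ _
    · intro h
      have : zpowers f.z ≤ R := zpowers_le.mpr hzR
      exact hπR _ (this h)
  have hcN : Nat.card N = 72 := by
    rw [← card_mul_index (π.comp N.subtype).ker, index_ker, MonoidHom.range_eq_top.mpr, card_top,
      card_SL23, hNker, Nat.card_congr (subgroupOfEquivOfLe (zpowers_le.mpr hzN)).toEquiv,
      Nat.card_zpowers, hoz]
    intro A
    obtain ⟨m, hm, e⟩ := hNsurj A
    exact ⟨⟨m, hm⟩, e⟩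
  -- a complement to `⟨z⟩` by transfer
  let z' : N := ⟨f.z, hzN⟩
  let n' : N := ⟨n, hrn⟩
  have hz'o : orderOf z' = 3 := by rw [← Subgroup.orderOf_coe]; exact hoz
  have hn'o : orderOf n' = 3 := by rw [← Subgroup.orderOf_coe]; exact hon
  have hz'c : ∀ y : N, Commute z' y := fun y => Subtype.ext (hzc y).eq
  have hz'n : ∀ k : ℕ, z' ^ k ∈ zpowers n' → 3 ∣ k := by
    intro k hk
    obtain ⟨i, hi⟩ := mem_zpowers_iff.mp hk
    have h1 : π ((n' ^ i : N) : X) = 1 := by
      rw [hi, SubmonoidClass.coe_pow, map_pow, hπR _ hzR, one_pow]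
    rw [SubgroupClass.coe_zpow, map_zpow] at h1
    have ho : orderOf (π n) = 3 := orderOf_eq_prime (by rw [← map_pow, hn3, map_one]) hπn
    have h3 : (3 : ℤ) ∣ i := by
      have := orderOf_dvd_iff_zpow_eq_one.mpr h1
      rwa [ho] at this
    obtain ⟨l, rfl⟩ := h3
    rw [zpow_mul, zpow_ofNat, show n' ^ 3 = 1 from Subtype.ext hn3, one_zpow] at hi
    rw [← hz'o]
    exact orderOf_dvd_of_pow_eq_one hi.symm
  set P := zpowers z' ⊔ zpowers n' with hP
  have hPcomm : ∀ y ∈ P, Commute n' y := by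
    intro y hy
    have hle : P ≤ centralizer ({n'} : Set N) :=
      sup_le (zpowers_le.mpr (mem_centralizer_singleton_iff.mpr (hz'c n').eq))
        (zpowers_le.mpr (mem_centralizer_singleton_iff.mpr rfl))
    exact (mem_centralizer_singleton_iff.mp (hle hy)).symm
  set L := (zpowers n').subgroupOf P with hL
  haveI hLn : L.Normal := ⟨fun y hy g => by
    rw [hL, mem_subgroupOf] at hy ⊢
    obtain ⟨i, hi⟩ := mem_zpowers_iff.mp hy
    simp only [Subgroup.coe_mul, Subgroup.coe_inv, ← hi]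
    rw [((hPcomm _ g.2).zpow_left i).symm.eq, mul_inv_cancel_right]
    exact zpow_mem (mem_zpowers _) _⟩
  have hn'P : zpowers n' ≤ P := le_sup_right
  have hqcard : Nat.card (P ⧸ L) = 3 := by
    have hdisj : zpowers z' ⊓ zpowers n' = ⊥ := by
      rw [eq_bot_iff]
      rintro y ⟨hy1, hy2⟩
      obtain ⟨k, rfl⟩ := (mem_powers_iff_mem_zpowers (x := z')).mpr hy1
      have hk : z' ^ k ∈ zpowers n' := hy2
      obtain ⟨l, rfl⟩ := hz'n k hk
      show z' ^ (3 * l) = 1
      rw [pow_mul, show z' ^ 3 = 1 from Subtype.ext f.d.z3, one_pow]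
    haveI : (zpowers z').Normal := ⟨fun y hy g => by
      obtain ⟨i, rfl⟩ := mem_zpowers_iff.mp hy
      rw [((hz'c g).zpow_left i).symm.eq, mul_inv_cancel_right]
      exact zpow_mem (mem_zpowers _) _⟩
    have e := Subgroup.card_eq_card_quotient_mul_card_subgroup L
    rw [hL, Nat.card_congr (subgroupOfEquivOfLe hn'P).toEquiv, Nat.card_zpowers, hn'o] at e
    have e2 : Nat.card P = 9 := by
      have h0 : (zpowers z').relIndex (zpowers n') = 3 := by
        rw [← inf_relIndex_right, hdisj, relIndex_bot_left, Nat.card_zpowers, hn'o]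
      have h1 : (zpowers z').relIndex P = 3 := by
        rw [hP, sup_comm, relIndex_sup_right, h0]
      have h2 := card_mul_index ((zpowers z').subgroupOf P)
      rw [Nat.card_congr (subgroupOfEquivOfLe (le_sup_left : zpowers z' ≤ P)).toEquiv,
        Nat.card_zpowers, hz'o, show ((zpowers z').subgroupOf P).index = 3 from h1] at h2
      omega
    rw [e2] at e
    rw [hL]
    omega
  haveI : IsCyclic (P ⧸ L) := isCyclic_of_prime_card hqcard
  let eq3 : (P ⧸ L) ≃* Multiplicative (ZMod 3) := mulEquivOfCyclicCardEq (hqcard.trans (by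
    rw [Nat.card_congr Multiplicative.toAdd, Nat.card_zmod]))
  let ϕ : P →* Multiplicative (ZMod 3) := eq3.toMonoidHom.comp (QuotientGroup.mk' L)
  have hPidx : P.index = 8 := by
    have e := Subgroup.card_eq_card_quotient_mul_card_subgroup L
    rw [hqcard, hL, Nat.card_congr (subgroupOfEquivOfLe hn'P).toEquiv, Nat.card_zpowers, hn'o] at e
    have h := card_mul_index P
    rw [e, hcN] at h
    omega
  have key0 : ∀ (k : ℕ) (g : N), g⁻¹ * z' ^ k * g ∈ P → g⁻¹ * z' ^ k * g = z' ^ k := fun k g _ => by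
    rw [mul_assoc, ((hz'c g).pow_left k).eq, inv_mul_cancel_left]
  set T : N →* Multiplicative (ZMod 3) := MonoidHom.transfer ϕ with hT
  have hTz : T z' ≠ 1 := by
    rw [hT, MonoidHom.transfer_eq_pow ϕ z' key0]
    intro e
    have e1 : (QuotientGroup.mk' L) ⟨z' ^ P.index, MonoidHom.transfer_eq_pow_aux z' key0⟩ = 1 :=
      eq3.injective (e.trans (map_one eq3).symm)
    rw [QuotientGroup.mk'_apply, QuotientGroup.eq_one_iff, hL, mem_subgroupOf] at e1
    have := hz'n _ e1
    rw [hPidx] at this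
    omega
  have hTsurj : T.range = ⊤ := by
    refine eq_top_of_card_eq _ ?_
    have hd := card_subgroup_dvd_card T.range
    rw [Nat.card_congr Multiplicative.toAdd, Nat.card_zmod] at hd ⊢
    rcases (Nat.dvd_prime Nat.prime_three).mp hd with e | e
    · exact absurd (mem_bot.mp (Subgroup.card_eq_one.mp e ▸ (⟨z', rfl⟩ : T z' ∈ T.range))) hTz
    · exact e
  have hKcard : Nat.card T.ker = 24 := by
    have := card_mul_index T.ker
    rw [index_ker, hTsurj, card_top, Nat.card_congr Multiplicative.toAdd, Nat.card_zmod, hcN] at this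
    omega
  let ρK : T.ker →* SL23 := (ρ.comp N.subtype).comp T.ker.subtype
  have hρKinj : Function.Injective ρK := by
    rw [injective_iff_map_eq_one]
    intro k hk
    obtain ⟨s, hs⟩ := hNR _ (rho_eq_one_iff R π hπ hker hexp hO2 hj hjπ f _ hk) (k : N).2
    have hk' : (k : N) = z' ^ s.val := Subtype.ext hs
    have h1 : (T z') ^ s.val = 1 := by rw [← map_pow, ← hk']; exact k.2
    have hoT : orderOf (T z') = 3 :=
      orderOf_eq_prime (by rw [← map_pow, show z' ^ 3 = 1 from Subtype.ext f.d.z3, map_one]) hTz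
    have h2 := orderOf_dvd_of_pow_eq_one h1
    rw [hoT] at h2
    have h3 : s.val = 0 := by
      rcases h2 with ⟨l, hl⟩
      have := ZMod.val_lt s
      omega
    exact Subtype.ext (by rw [hk', h3, pow_zero]; rfl)
  let iK : T.ker ≃* SL23 := MulEquiv.ofBijective ρK
    ((Nat.bijective_iff_injective_and_card ρK).2 ⟨hρKinj, by rw [hKcard, card_SL23]⟩)
  let κ : SL23 →* X := (N.subtype.comp T.ker.subtype).comp iK.symm.toMonoidHom
  have hκN : ∀ A, κ A ∈ N := fun A => ((iK.symm A : T.ker) : N).2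
  have hρκ : ∀ A, ρ (κ A) = A := fun A => iK.apply_symm_apply A
  let Φ : Jac →* X := SemidirectProduct.lift f.d.eta κ fun A => MonoidHom.ext fun h => by
    show f.d.eta (Heis.app A h) = κ A * f.d.eta h * (κ A)⁻¹
    rw [hNact _ (hκN A), hρκ]
  have hΦ : Function.Injective Φ := by
    rw [injective_iff_map_eq_one]
    intro y hy
    have e : f.d.eta y.left * κ y.right = 1 := hy
    have hA : y.right = 1 := by
      have := congrArg ρ e
      rwa [map_mul, map_one, show ρ (f.d.eta y.left) = 1 from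
        Subtype.ext (f.mat_of_mem (f.eta_mem _)), one_mul, hρκ] at this
    rw [hA, map_one, mul_one, ← map_one f.d.eta] at e
    exact SemidirectProduct.ext (f.inj e) hA
  have hX : Nat.card X = 648 := by
    rw [← card_mul_index π.ker, index_ker, MonoidHom.range_eq_top.mpr hπ, card_top, hker, hcard,
      card_SL23]
  exact ⟨MulEquiv.ofBijective Φ ((Nat.bijective_iff_injective_and_card Φ).2
    ⟨hΦ, natCard_jac.trans hX.symm⟩)⟩

end main

end Cfsg.Agent.Lib.JacobiThree
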