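import Cfsg.Agent.Lib.JacobiThree.Heis
import Cfsg.Agent.Lib.Classical.Symplectic
import Cfsg.Prelude.Def_Classical

/-!
`3^{1+2} ⋊ SL₂(3)` is the centraliser of a transvection in `PSp₄(3)`.
-/

set_option autoImplicit false
set_option linter.style.haveILetI false

namespace Cfsg.Agent.Lib.JacobiThree

open Matrix

variable {F : Type*} [Field F] (φ : ZMod 3 →+* F)

/-- `Sp₄`. -/
abbrev Sp4 (F : Type*) [Field F] := Matrix.symplecticGroup (Fin 2) F

/-- The matrix of a Heisenberg element. -/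
def hMat (h : Heis) : Matrix (Fin 2 ⊕ Fin 2) (Fin 2 ⊕ Fin 2) F :=
  fromBlocks !![1, -φ h.q; 0, 1] !![φ h.t, φ h.p; φ h.p, 0] 0 !![1, 0; φ h.q, 1]

/-- The matrix of an element of `SL₂(3)`. -/
def gMat (A : SL23) : Matrix (Fin 2 ⊕ Fin 2) (Fin 2 ⊕ Fin 2) F :=
  fromBlocks !![1, 0; 0, φ (A.1 0 0)] !![0, 0; 0, φ (A.1 0 1)] !![0, 0; 0, φ (A.1 1 0)]
    !![1, 0; 0, φ (A.1 1 1)]

theorem phi_det (A : SL23) : φ (A.1 0 0) * φ (A.1 1 1) - φ (A.1 0 1) * φ (A.1 1 0) = 1 := by
  rw [← map_mul, ← map_mul, ← map_sub, ← Matrix.det_fin_two, A.2, map_one]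

theorem hMat_mem (h : Heis) : hMat φ h ∈ Sp4 F := by
  rw [SymplecticGroup.mem_iff]
  ext i k
  rcases i with i | i <;> rcases k with k | k <;> fin_cases i <;> fin_cases k <;>
    simp [hMat, Matrix.J, Matrix.mul_apply, Fintype.sum_sum_type, Fin.sum_univ_two,
      fromBlocks_apply₁₁, fromBlocks_apply₁₂, fromBlocks_apply₂₁, fromBlocks_apply₂₂] <;> ring

theorem gMat_mem (A : SL23) : gMat φ A ∈ Sp4 F := by
  have hd := phi_det φ A
  rw [SymplecticGroup.mem_iff]
  ext i k
  rcases i with i | i <;> rcases k with k | k <;> fin_cases i <;> fin_cases k <;>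
    simp [gMat, Matrix.J, Matrix.mul_apply, Fintype.sum_sum_type, Fin.sum_univ_two] <;>
    first
      | ring1
      | linear_combination hd
      | linear_combination -hd

/-- The Heisenberg part. -/
def hHom : Heis →* Sp4 F :=
  MonoidHom.mk' (fun h => ⟨hMat φ h, hMat_mem φ h⟩) fun g h => Subtype.ext (by
    show hMat φ (g * h) = hMat φ g * hMat φ h
    ext i k
    rcases i with i | i <;> rcases k with k | k <;> fin_cases i <;> fin_cases k <;>
      simp [hMat, Matrix.mul_apply, Fintype.sum_sum_type, Fin.sum_univ_two] <;> ring)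

/-- The `SL₂(3)` part. -/
def gHom : SL23 →* Sp4 F :=
  MonoidHom.mk' (fun A => ⟨gMat φ A, gMat_mem φ A⟩) fun A B => Subtype.ext (by
    show gMat φ (A * B) = gMat φ A * gMat φ B
    ext i k
    rcases i with i | i <;> rcases k with k | k <;> fin_cases i <;> fin_cases k <;>
      simp [gMat, Matrix.mul_apply, Fintype.sum_sum_type, Fin.sum_univ_two])

theorem compat_eq (A : SL23) (h : Heis) :
    gHom φ A * hHom φ h = hHom φ (Heis.app A h) * gHom φ A := Subtype.ext (by
  have hd := phi_det φ A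
  show gMat φ A * hMat φ h = hMat φ (Heis.app A h) * gMat φ A
  ext i k
  rcases i with i | i <;> rcases k with k | k <;> fin_cases i <;> fin_cases k <;>
    simp [gMat, hMat, Heis.app, Matrix.mul_apply, Fintype.sum_sum_type, Fin.sum_univ_two] <;>
    first
      | ring1
      | linear_combination φ h.q * hd
      | linear_combination -(φ h.q) * hd
      | linear_combination φ h.p * hd
      | linear_combination -(φ h.p) * hd)

/-- The embedding. -/
def embed : Jac →* Sp4 F :=
  SemidirectProduct.lift (hHom φ) (gHom φ) fun A => MonoidHom.ext fun h => by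
    show hHom φ (Heis.app A h) = gHom φ A * hHom φ h * (gHom φ A)⁻¹
    rw [compat_eq, mul_inv_cancel_right]

theorem embed_apply (y : Jac) :
    ((embed φ y : Sp4 F) : Matrix (Fin 2 ⊕ Fin 2) (Fin 2 ⊕ Fin 2) F) =
      hMat φ y.left * gMat φ y.right := rfl

theorem embed_entries (y : Jac) :
    let M := ((embed φ y : Sp4 F) : Matrix (Fin 2 ⊕ Fin 2) (Fin 2 ⊕ Fin 2) F)
    M (.inl 0) (.inl 0) = 1 ∧ M (.inl 0) (.inr 0) = φ y.left.t ∧ M (.inl 1) (.inr 0) = φ y.left.p ∧
      M (.inr 1) (.inr 0) = φ y.left.q ∧ M (.inl 1) (.inl 1) = φ (y.right.1 0 0) ∧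
      M (.inl 1) (.inr 1) = φ (y.right.1 0 1) ∧ M (.inr 1) (.inl 1) = φ (y.right.1 1 0) ∧
      M (.inr 1) (.inr 1) = φ (y.right.1 1 1) := by
  simp [embed_apply, hMat, gMat, Matrix.mul_apply, Fintype.sum_sum_type, Fin.sum_univ_two]

theorem embed_injective : Function.Injective (embed φ) := by
  rw [injective_iff_map_eq_one]
  intro y hy
  have h := embed_entries φ y
  rw [hy] at h
  obtain ⟨-, h1, h2, h3, h4, h5, h6, h7⟩ := h
  simp [Matrix.one_apply] at h1 h2 h3 h4 h5 h6 h7
  refine SemidirectProduct.ext (Heis.ext ?_ ?_ ?_) (Subtype.ext ?_)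
  · simpa using h2.symm
  · simpa using h3.symm
  · simpa using h1.symm
  · ext i k
    fin_cases i <;> fin_cases k <;>
      simp [Matrix.one_apply] <;> refine φ.injective ?_ <;> simp [← h4, ← h5, ← h6, ← h7]

/-- The transvection. -/
def trv : Sp4 F := embed φ (SemidirectProduct.inl ⟨0, 0, 1⟩)

theorem trv_mat :
    ((trv φ : Sp4 F) : Matrix (Fin 2 ⊕ Fin 2) (Fin 2 ⊕ Fin 2) F) =
      1 + Matrix.single (.inl 0) (.inr 0) 1 := by
  ext i k
  rw [trv, embed_apply]
  rcases i with i | i <;> rcases k with k | k <;> fin_cases i <;> fin_cases k <;>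
    simp [hMat, gMat, Matrix.mul_apply, Fintype.sum_sum_type, Fin.sum_univ_two, Matrix.one_apply,
      Matrix.single]

theorem zeta_central (y : Jac) :
    y * SemidirectProduct.inl ⟨0, 0, 1⟩ = SemidirectProduct.inl ⟨0, 0, 1⟩ * y := by
  refine SemidirectProduct.ext ?_ (by simp)
  simp only [SemidirectProduct.mul_left, SemidirectProduct.left_inl, SemidirectProduct.right_inl,
    map_one, MulAut.one_apply, Heis.act_apply]
  ext <;> simp [Heis.app]; ring

theorem mem_range_of_commute (hφ : Function.Surjective φ) (M : Sp4 F)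
    (hM : M * trv φ = trv φ * M) (h1 : M.1 (.inl 0) (.inl 0) = 1) :
    M ∈ (embed φ).range := by
  have hE : M.1 * Matrix.single (.inl 0) (.inr 0) (1 : F) =
      Matrix.single (.inl 0) (.inr 0) (1 : F) * M.1 := by
    have := congrArg Subtype.val hM
    simp only [Submonoid.coe_mul, trv_mat, Matrix.mul_add, Matrix.add_mul, Matrix.mul_one,
      Matrix.one_mul] at this
    exact add_left_cancel this
  have ha := congrFun (congrFun hE (.inl 1)) (.inr 0)
  have hb := congrFun (congrFun hE (.inr 0)) (.inr 0)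
  have hc := congrFun (congrFun hE (.inr 1)) (.inr 0)
  have hd := congrFun (congrFun hE (.inl 0)) (.inr 0)
  have he := congrFun (congrFun hE (.inl 0)) (.inl 0)
  have hf := congrFun (congrFun hE (.inl 0)) (.inl 1)
  have hg := congrFun (congrFun hE (.inl 0)) (.inr 1)
  simp [Matrix.mul_apply, Matrix.single, Fintype.sum_sum_type, Fin.sum_univ_two] at ha hb hc hd he hf hg
  replace hf := hf.symm
  replace hg := hg.symm
  have hs := SymplecticGroup.mem_iff.mp M.2
  have s01 := congrFun (congrFun hs (.inl 0)) (.inl 1)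
  have s03 := congrFun (congrFun hs (.inl 0)) (.inr 1)
  have s13 := congrFun (congrFun hs (.inl 1)) (.inr 1)
  simp [Matrix.J, Matrix.mul_apply, Fintype.sum_sum_type, Fin.sum_univ_two] at s01 s03 s13
  obtain ⟨t, ht⟩ := hφ (M.1 (.inl 0) (.inr 0))
  obtain ⟨p, hp⟩ := hφ (M.1 (.inl 1) (.inr 0))
  obtain ⟨q, hq⟩ := hφ (M.1 (.inr 1) (.inr 0))
  obtain ⟨a, ha'⟩ := hφ (M.1 (.inl 1) (.inl 1))
  obtain ⟨b, hb'⟩ := hφ (M.1 (.inl 1) (.inr 1))
  obtain ⟨c, hc'⟩ := hφ (M.1 (.inr 1) (.inl 1))
  obtain ⟨d, hd'⟩ := hφ (M.1 (.inr 1) (.inr 1))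
  have hdet : a * d - b * c = 1 := φ.injective (by
    rw [map_sub, map_mul, map_mul, map_one, ha', hb', hc', hd']
    linear_combination (-1 : F) * s13 - M.1 (.inr 1) (.inr 0) * ha + M.1 (.inl 1) (.inr 0) * hc)
  refine ⟨⟨⟨p, q, t⟩, ⟨!![a, b; c, d], by rw [Matrix.det_fin_two_of]; exact hdet⟩⟩, ?_⟩
  have hdetF : M.1 (.inl 1) (.inl 1) * M.1 (.inr 1) (.inr 1) -
      M.1 (.inl 1) (.inr 1) * M.1 (.inr 1) (.inl 1) = 1 := by
    rw [← ha', ← hb', ← hc', ← hd', ← map_mul, ← map_mul, ← map_sub, hdet, map_one]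
  apply Subtype.ext
  show hMat φ _ * gMat φ _ = M.1
  ext i k
  rcases i with i | i <;> rcases k with k | k <;> fin_cases i <;> fin_cases k <;>
    simp [hMat, gMat, Matrix.mul_apply, Fintype.sum_sum_type, Fin.sum_univ_two, hp, hq, ht, ha', hb',
      hc', hd', h1, ha, hb, hc, hf, hg, ← hd] at s01 s03 ⊢
  all_goals
    first
      | linear_combination M.1 (.inr 1) (.inl 1) * s01 - M.1 (.inl 1) (.inl 1) * s03 +
          M.1 (.inl 0) (.inl 1) * hdetF
      | linear_combination M.1 (.inr 1) (.inr 1) * s01 - M.1 (.inl 1) (.inr 1) * s03 +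
          M.1 (.inl 0) (.inr 1) * hdetF
      | linear_combination -(M.1 (.inr 1) (.inl 1)) * s01 + M.1 (.inl 1) (.inl 1) * s03 +
          M.1 (.inl 0) (.inl 1) * hdetF
      | linear_combination -(M.1 (.inr 1) (.inr 1)) * s01 + M.1 (.inl 1) (.inr 1) * s03 +
          M.1 (.inl 0) (.inr 1) * hdetF

theorem fac_three {m k : ℕ} (hm : ¬ 3 ∣ m) : (m * 3 ^ k).factorization 3 = k := by
  rw [Nat.factorization_mul (by intro h; exact hm (h ▸ dvd_zero 3)) (by positivity),
    Finsupp.add_apply, Nat.factorization_eq_zero_of_not_dvd hm, Nat.factorization_pow,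
    Nat.Prime.factorization Nat.prime_three, Finsupp.smul_apply, Finsupp.single_eq_same]
  simp

theorem heis_z_pow : (⟨0, 0, 1⟩ : Heis) ^ 3 = 1 := by decide

theorem heis_z_ne : (⟨0, 0, 1⟩ : Heis).t ≠ (1 : Heis).t := by decide

theorem two_ne : (2 : ZMod 3) ≠ 0 := by decide

theorem main (F : Type*) [Field F] [Fintype F] (hF : Fintype.card F = 3) :
    ∃ (c : Cfsg.PSp 2 F) (S : Sylow 3 (Cfsg.PSp 2 F)), orderOf c = 3 ∧
      c ∈ (S : Subgroup (Cfsg.PSp 2 F)) ∧
      c ∈ Subgroup.centralizer ((S : Subgroup (Cfsg.PSp 2 F)) : Set (Cfsg.PSp 2 F)) ∧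
      Nonempty (Jac ≃* Subgroup.centralizer ({c} : Set (Cfsg.PSp 2 F))) := by
  classical
  haveI : Fact (Nat.Prime 3) := ⟨Nat.prime_three⟩
  haveI : CharP F 3 := charP_of_card_eq_prime_pow (f := 1) (by rw [hF, pow_one])
  let φ : ZMod 3 →+* F := ZMod.castHom dvd_rfl F
  have hφ : Function.Surjective φ :=
    ((Fintype.bijective_iff_injective_and_card φ).2 ⟨φ.injective, by rw [ZMod.card, hF]⟩).2
  have h2 : (2 : F) ≠ 0 := by
    intro e
    have : φ 2 = φ 0 := by rw [map_ofNat, map_zero, e]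
    exact two_ne (φ.injective this)
  -- the centre
  let ν : Sp4 F := ⟨-1, SymplecticGroup.neg_mem (one_mem _)⟩
  have hνc : ν ∈ Subgroup.center (Sp4 F) := Subgroup.mem_center_iff.mpr fun g => Subtype.ext (by
    show g.1 * -1 = -1 * g.1
    rw [Matrix.mul_neg, Matrix.neg_mul, Matrix.mul_one, Matrix.one_mul])
  have hν1 : ν ≠ 1 := fun e => h2 (by
    have := congrArg (fun g : Sp4 F => g.1 (.inl 0) (.inl 0)) e
    simp [ν] at this
    linear_combination -this)
  have hcard2 : Nat.card (Subgroup.center (Sp4 F)) = 2 := by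
    rw [Classical.natCard_center_symplecticGroup 2 (by norm_num), hF]; rfl
  have hcen : ∀ u ∈ Subgroup.center (Sp4 F), u = 1 ∨ u = ν := by
    intro u hu
    by_contra hh
    push Not at hh
    have hsub : ({1, ν, u} : Finset (Sp4 F)).card ≤ 2 := by
      refine le_of_le_of_eq ?_ hcard2
      rw [← Set.ncard_coe_finset]
      show _ ≤ Nat.card (↥((Subgroup.center (Sp4 F) : Set (Sp4 F))))
      rw [Nat.card_coe_set_eq]
      refine Set.ncard_le_ncard ?_ (Set.toFinite _)
      intro y hy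
      simp at hy
      rcases hy with rfl | rfl | rfl
      · exact one_mem _
      · exact hνc
      · exact hu
    rw [Finset.card_insert_of_notMem (by simp [hν1.symm, hh.1.symm]),
      Finset.card_insert_of_notMem (by simp [hh.2.symm]), Finset.card_singleton] at hsub
    omega
  let Ψ : Jac →* Cfsg.PSp 2 F := (QuotientGroup.mk' (Subgroup.center (Sp4 F))).comp (embed φ)
  have hΨ : Function.Injective Ψ := by
    rw [injective_iff_map_eq_one]
    intro y hy
    have : embed φ y ∈ Subgroup.center (Sp4 F) := (QuotientGroup.eq_one_iff _).mp hy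
    rcases hcen _ this with e | e
    · exact embed_injective φ (by rw [e, map_one])
    · exfalso
      have h := (embed_entries φ y).1
      rw [e] at h
      simp [ν] at h
      exact h2 (by linear_combination -h)
  set c : Cfsg.PSp 2 F := Ψ (SemidirectProduct.inl ⟨0, 0, 1⟩) with hc
  have hrange : Ψ.range = Subgroup.centralizer ({c} : Set (Cfsg.PSp 2 F)) := by
    refine le_antisymm ?_ fun x hx => ?_
    · rintro _ ⟨y, rfl⟩
      rw [Subgroup.mem_centralizer_singleton_iff, hc, ← map_mul, ← map_mul, zeta_central]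
    obtain ⟨M, rfl⟩ := QuotientGroup.mk'_surjective _ x
    rw [Subgroup.mem_centralizer_singleton_iff] at hx
    have hmem : (M * trv φ)⁻¹ * (trv φ * M) ∈ Subgroup.center (Sp4 F) := QuotientGroup.eq.mp hx
    rcases hcen _ hmem with e | e
    · have hM : M * trv φ = trv φ * M := inv_mul_eq_one.mp e
      have hM' : ∀ u ∈ Subgroup.center (Sp4 F), (u * M) * trv φ = trv φ * (u * M) := fun u hu => by
        rw [mul_assoc, hM, ← mul_assoc, ← mul_assoc, (Subgroup.mem_center_iff.mp hu (trv φ)).symm]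
      have hE := congrArg Subtype.val hM
      simp only [Submonoid.coe_mul, trv_mat, Matrix.mul_add, Matrix.add_mul, Matrix.mul_one,
        Matrix.one_mul] at hE
      have hE' := add_left_cancel hE
      have hb := congrFun (congrFun hE' (.inr 0)) (.inr 0)
      have hd := congrFun (congrFun hE' (.inl 0)) (.inr 0)
      have hg := congrFun (congrFun hE' (.inl 0)) (.inr 1)
      have hf := congrFun (congrFun hE' (.inl 0)) (.inl 1)
      simp [Matrix.mul_apply, Matrix.single, Fintype.sum_sum_type, Fin.sum_univ_two] at hb hd hg hf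
      replace hg := hg.symm
      replace hf := hf.symm
      have s02 := congrFun (congrFun (SymplecticGroup.mem_iff.mp M.2) (.inl 0)) (.inr 0)
      simp [Matrix.J, Matrix.mul_apply, Fintype.sum_sum_type, Fin.sum_univ_two, hb, hg, hf] at s02
      set l := M.1 (.inl 0) (.inl 0) with hl
      have hsq : (l - 1) * (l + 1) = 0 := by
        linear_combination s02 + l * hd
      rcases mul_eq_zero.mp hsq with e1 | e1
      · obtain ⟨y, hy⟩ := mem_range_of_commute φ hφ M hM (sub_eq_zero.mp e1)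
        exact ⟨y, by show QuotientGroup.mk' _ (embed φ y) = _; rw [hy]⟩
      · obtain ⟨y, hy⟩ := mem_range_of_commute φ hφ (ν * M) (hM' ν hνc) (by
          show ((-1 : Matrix (Fin 2 ⊕ Fin 2) (Fin 2 ⊕ Fin 2) F) * M.1) _ _ = 1
          simp only [Matrix.neg_mul, Matrix.one_mul, Matrix.neg_apply]
          linear_combination -e1)
        refine ⟨y, ?_⟩
        show QuotientGroup.mk' _ (embed φ y) = _
        rw [hy, map_mul, show QuotientGroup.mk' (Subgroup.center (Sp4 F)) ν = 1 from
          (QuotientGroup.eq_one_iff _).mpr hνc, one_mul]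
    · exfalso
      have e' : trv φ * M = M * trv φ * ν := by rw [← e, mul_inv_cancel_left]
      have hE := congrArg Subtype.val e'
      simp only [Submonoid.coe_mul, trv_mat, Matrix.mul_add, Matrix.add_mul, Matrix.mul_one,
        Matrix.one_mul, show (ν : Sp4 F).1 = -1 from rfl, Matrix.mul_neg] at hE
      have z1 := congrFun (congrFun hE (.inr 0)) (.inl 0)
      have z2 := congrFun (congrFun hE (.inr 0)) (.inl 1)
      have z3 := congrFun (congrFun hE (.inr 0)) (.inr 0)
      have z4 := congrFun (congrFun hE (.inr 0)) (.inr 1)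
      simp [Matrix.mul_apply, Matrix.single, Fintype.sum_sum_type, Fin.sum_univ_two] at z1 z2 z3 z4
      have w1 : M.1 (.inr 0) (.inl 0) = 0 :=
        (mul_eq_zero.mp (show (2 : F) * _ = 0 by linear_combination z1)).resolve_left h2
      have w2 : M.1 (.inr 0) (.inl 1) = 0 :=
        (mul_eq_zero.mp (show (2 : F) * _ = 0 by linear_combination z2)).resolve_left h2
      have w4 : M.1 (.inr 0) (.inr 1) = 0 :=
        (mul_eq_zero.mp (show (2 : F) * _ = 0 by linear_combination z4)).resolve_left h2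
      have w3 : M.1 (.inr 0) (.inr 0) = 0 :=
        (mul_eq_zero.mp (show (2 : F) * _ = 0 by linear_combination z3 - w1)).resolve_left h2
      have s20 := congrFun (congrFun (SymplecticGroup.mem_iff.mp M.2) (.inl 0)) (.inr 0)
      simp [Matrix.J, Matrix.mul_apply, Fintype.sum_sum_type, Fin.sum_univ_two, w1, w2, w3, w4] at s20
  let e : Jac ≃* Subgroup.centralizer ({c} : Set (Cfsg.PSp 2 F)) :=
    (MonoidHom.ofInjective hΨ).trans (MulEquiv.subgroupCongr hrange)
  have hco : orderOf c = 3 := by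
    refine orderOf_eq_prime ?_ ?_
    · rw [hc, ← map_pow, ← map_pow, heis_z_pow, map_one, map_one]
    · rw [hc, ← map_one Ψ]
      intro h
      have h1 := congrArg (fun y : Jac => y.left) (hΨ h)
      simp at h1
      exact heis_z_ne (congrArg Heis.t h1)
  have hP : Nat.card (Cfsg.PSp 2 F) = 25920 := by
    have hsp : Nat.card (Sp4 F) = 51840 := by
      rw [Classical.natCard_symplecticGroup, Nat.card_eq_fintype_card, hF]
      norm_num [Finset.prod_range_succ]
    have h := Subgroup.card_eq_card_quotient_mul_card_subgroup (Subgroup.center (Sp4 F))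
    rw [hsp, hcard2] at h
    change _ = Nat.card (Cfsg.PSp 2 F) * 2 at h
    omega
  have hC : Nat.card (Subgroup.centralizer ({c} : Set (Cfsg.PSp 2 F))) = 648 := by
    rw [← Nat.card_congr e.toEquiv, natCard_jac]
  have hcm : c ∈ Subgroup.centralizer ({c} : Set (Cfsg.PSp 2 F)) :=
    Subgroup.mem_centralizer_singleton_iff.mpr rfl
  let c' : Subgroup.centralizer ({c} : Set (Cfsg.PSp 2 F)) := ⟨c, hcm⟩
  have hc' : IsPGroup 3 (Subgroup.zpowers c') := IsPGroup.of_card (n := 1) (by
    rw [Nat.card_zpowers, ← Subgroup.orderOf_coe, pow_one]; exact hco)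
  obtain ⟨T, hT⟩ := hc'.exists_le_sylow
  have hTc : Nat.card T = 3 ^ 4 := by
    rw [Sylow.card_eq_multiplicity, hC]
    rw [show (648 : ℕ) = 8 * 3 ^ 4 from rfl, fac_three (by norm_num)]
  let S₀ : Subgroup (Cfsg.PSp 2 F) :=
    (T : Subgroup (Subgroup.centralizer ({c} : Set (Cfsg.PSp 2 F)))).map (Subgroup.subtype _)
  have hS₀ : Nat.card S₀ = 3 ^ (Nat.card (Cfsg.PSp 2 F)).factorization 3 := by
    rw [Subgroup.card_map_of_injective (Subgroup.subtype_injective _), hTc, hP]
    rw [show (25920 : ℕ) = 320 * 3 ^ 4 from rfl, fac_three (by norm_num)]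
  refine ⟨c, Sylow.ofCard S₀ hS₀, hco, ?_, ?_, ⟨e⟩⟩
  · rw [Sylow.coe_ofCard]
    exact ⟨c', hT (Subgroup.mem_zpowers _), rfl⟩
  · rw [Sylow.coe_ofCard, Subgroup.mem_centralizer_iff]
    rintro _ ⟨y, -, rfl⟩
    exact Subgroup.mem_centralizer_singleton_iff.mp y.2

end Cfsg.Agent.Lib.JacobiThree
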